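import Groth.Agent.SepTensor.Basic
import Groth.Agent.AlgSpLib.NoethPts
import Groth.Agent.AlgSpLib.Space
import Groth.Agent.AlgSpLib.Points
import Groth.Prelude.Def_AlgSpDec

/-!
Connected components of algebraic spaces under extensions of separably closed fields.
-/

universe u
open CategoryTheory CategoryTheory.Limits AlgebraicGeometry AlgSp Topology

set_option backward.isDefEq.respectTransparency false

namespace Groth.Agent.GeomPi0

open Groth.Agent.AlgSpLib

variable {S : Scheme.{u}}

/-- base change along an extension of a separably closed field: open with connected fibres -/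
theorem isOpenMap_and_connected_fibres {F : Sp S} (hF : IsAlgSpace F) {k Ω : Type u} [Field k] [IsSepClosed k] [Field Ω]
    {str : Spec (.of k) ⟶ S} {w : Spec (.of Ω) ⟶ S} (ι : Over.mk w ⟶ Over.mk str)
    (q : F ⟶ (yon S).obj (Over.mk str)) {P : Sp S} {pr : P ⟶ F} {q' : P ⟶ (yon S).obj (Over.mk w)}
    (sq : IsPullback pr q' q ((yon S).map ι)) :
    IsOpenMap (Points.map pr) ∧ ∀ z : Points F, _root_.IsConnected (Points.map pr ⁻¹' {z}) := by
  refine ⟨isUnivOpenMor_to_field (IsAlgSpace.yon_obj _) str ((yon S).map ι) hF q q' pr sq.flip, fun z => ?_⟩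
  obtain ⟨p, rfl⟩ := Points.mk_surjective z
  obtain ⟨m, hm⟩ := (yon S).map_surjective (p.toHom ≫ q)
  obtain ⟨φ, hφ⟩ := Spec.map_surjective ι.left
  letI : Algebra k Ω := φ.hom.toAlgebra
  have hι : Spec.map (CommRingCat.ofHom (algebraMap k Ω)) = ι.left := hφ
  have hconn : ConnectedSpace ↥(pullback m.left (Spec.map (CommRingCat.ofHom (algebraMap k Ω)))) := by
    obtain ⟨ψ, hψ⟩ := Spec.map_surjective m.left
    letI : Algebra k p.K := ψ.hom.toAlgebra
    haveI : ConnectedSpace (PrimeSpectrum p.K) := inferInstance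
    haveI : ConnectedSpace (PrimeSpectrum Ω) := inferInstance
    have h2 : ConnectedSpace ↥(Spec (CommRingCat.of (TensorProduct k p.K Ω))) :=
      Groth.Agent.SepTensor.connected_tensor_sepClosed (k := k) (R := p.K) (S := Ω)
    have e : pullback m.left (Spec.map (CommRingCat.ofHom (algebraMap k Ω))) ≅
        Spec (CommRingCat.of (TensorProduct k p.K Ω)) :=
      pullback.congrHom (show m.left = Spec.map (CommRingCat.ofHom (algebraMap k p.K)) from hψ.symm) rfl ≪≫
        pullbackSpecIso k p.K Ω
    exact e.inv.homeomorph.surjective.connectedSpace e.inv.homeomorph.continuous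
  let T : Over S := Over.mk (pullback.fst m.left (Spec.map (CommRingCat.ofHom (algebraMap k Ω))) ≫ p.str)
  let t₁ : T ⟶ p.pt := Over.homMk (pullback.fst _ _) rfl
  let t₂ : T ⟶ Over.mk w := Over.homMk (pullback.snd _ _) (by
    have h1 : ι.left ≫ str = w := Over.w ι
    have h2 : m.left ≫ str = p.str := Over.w m
    show pullback.snd _ _ ≫ w = pullback.fst _ _ ≫ p.str
    rw [← h1, ← h2, ← Category.assoc, ← Category.assoc, pullback.condition, hι])
  have hsq : IsPullback ((yon S).map t₁) ((yon S).map t₂) ((yon S).map m) ((yon S).map ι) := by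
    refine isPullback_yon_iff.2 ?_
    show IsPullback (pullback.fst _ _) (pullback.snd _ _) m.left ι.left
    rw [← hι]
    exact IsPullback.of_hasPullback _ _
  let l : (yon S).obj T ⟶ P := sq.lift ((yon S).map t₁ ≫ p.toHom) ((yon S).map t₂)
    (by rw [Category.assoc, ← hm]; exact hsq.w)
  have hl1 : l ≫ pr = (yon S).map t₁ ≫ p.toHom := sq.lift_fst _ _ _
  have hl2 : l ≫ q' = (yon S).map t₂ := sq.lift_snd _ _ _
  have sq3 : IsPullback ((yon S).map t₁) l p.toHom pr := by
    refine IsPullback.of_bot ?_ hl1.symm sq.flip.flip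
    rw [hl2, ← hm]
    exact hsq
  have e : Points.map pr ⁻¹' {Points.mk p} = Set.range (Points.ofPt l) := by
    ext x
    constructor
    · intro hx
      obtain ⟨y, -, hy⟩ := exists_point_of_isPullback sq3 (Points.ofPt (𝟙 _) (IsLocalRing.closedPoint p.K)) x
        (by rw [Points.map_ofPt, Category.id_comp, Points.ofPt_toHom]; exact hx.symm)
      refine ⟨Points.toScheme T y, ?_⟩
      rw [← hy, ← Category.id_comp l, ← Points.map_ofPt]
      exact congrArg (Points.map l) (Points.ofScheme_toScheme T y)
    · rintro ⟨t, rfl⟩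
      show Points.map pr (Points.ofPt l t) = Points.mk p
      rw [Points.map_ofPt, hl1, ofPt_comp]
      exact Points.ofPt_toHom p _
  rw [e]
  haveI : ConnectedSpace ↥T.left := hconn
  exact isConnected_range (Points.continuous_ofPt l)

/-- the set of connected components does not change -/
theorem card_connectedComponents {F : Sp S} (hF : IsAlgSpace F) {k Ω : Type u} [Field k] [IsSepClosed k] [Field Ω]
    {str : Spec (.of k) ⟶ S} {w : Spec (.of Ω) ⟶ S} (ι : Over.mk w ⟶ Over.mk str)
    (q : F ⟶ (yon S).obj (Over.mk str)) {P : Sp S} {pr : P ⟶ F} {q' : P ⟶ (yon S).obj (Over.mk w)}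
    (sq : IsPullback pr q' q ((yon S).map ι)) :
    ENat.card (_root_.ConnectedComponents (Points P)) = ENat.card (_root_.ConnectedComponents (Points F)) := by
  obtain ⟨ho, hf⟩ := isOpenMap_and_connected_fibres hF ι q sq
  have hq : IsQuotientMap (Points.map pr) :=
    ho.isQuotientMap (Points.continuous_map pr) (fun z => (hf z).nonempty)
  exact ENat.card_congr (Equiv.ofBijective _ (hq.isCoinducing.connectedComponentsMap_bijective hf))

/-- products with a scheme are base changes to the terminal object -/
theorem isPullback_prod (X : Sp S) (T : Over S) :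
    IsPullback (Limits.prod.fst : X ⨯ (yon S).obj T ⟶ X) Limits.prod.snd
      ((Over.mkIdTerminal.isTerminalObj (yon S)).from X)
      ((yon S).map (Over.homMk T.hom : T ⟶ Over.mk (𝟙 S))) := by
  rw [(Over.mkIdTerminal.isTerminalObj (yon S)).hom_ext ((yon S).map (Over.homMk T.hom : T ⟶ Over.mk (𝟙 S)))
    ((Over.mkIdTerminal.isTerminalObj (yon S)).from _)]
  exact IsPullback.of_is_product (prodIsProd X ((yon S).obj T)) (Over.mkIdTerminal.isTerminalObj (yon S))

theorem isPullback_prod_map (X : Sp S) {T T' : Over S} (ι : T' ⟶ T) :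
    IsPullback (Limits.prod.map (𝟙 X) ((yon S).map ι)) Limits.prod.snd Limits.prod.snd ((yon S).map ι) := by
  refine IsPullback.of_right ?_ (by rw [Limits.prod.map_snd]) (isPullback_prod X T)
  rw [Limits.prod.map_fst, Category.comp_id]
  have h := isPullback_prod X T'
  rwa [(Over.mkIdTerminal.isTerminalObj (yon S)).hom_ext ((yon S).map ι ≫ (yon S).map (Over.homMk T.hom : T ⟶ Over.mk (𝟙 S)))
    ((yon S).map (Over.homMk T'.hom : T' ⟶ Over.mk (𝟙 S)))]

theorem isAlgSpace_prod {X : Sp S} (hX : IsAlgSpace X) (T : Over S) : IsAlgSpace (X ⨯ (yon S).obj T) :=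
  isAlgSpace_of_isPullback_space (IsAlgSpace.yon_obj (Over.mk (𝟙 S))) hX (IsAlgSpace.yon_obj T)
    (isPullback_prod X T)

end Groth.Agent.GeomPi0
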