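import Groth.Agent.GeomPi0.Basic
import Groth.Agent.SpQS.GoodPt
import Groth.Agent.AlgSpLib.RepUniv

/-!
Geometric connectedness of spaces over a field is detected on finite separable extensions.
-/

universe u
open CategoryTheory CategoryTheory.Limits AlgebraicGeometry AlgSp Topology TensorProduct

set_option backward.isDefEq.respectTransparency false

namespace Groth.Agent.GeomPi0

open Groth.Agent.AlgSpLib

variable {S : Scheme.{u}} {k : Type u} [Field k] (str : Spec (CommRingCat.of k) ⟶ S)

/-- an extension as an object over the base -/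
noncomputable abbrev ExtObj (K : Type u) [CommRing K] [Algebra k K] : Over S :=
  Over.mk (Spec.map (CommRingCat.ofHom (algebraMap k K)) ≫ str)

/-- its map to the field -/
noncomputable abbrev extHom (K : Type u) [CommRing K] [Algebra k K] : ExtObj str K ⟶ Over.mk str :=
  Over.homMk (Spec.map (CommRingCat.ofHom (algebraMap k K))) rfl

variable {str}

/-- maps of extensions -/
noncomputable abbrev extMap {K L : Type u} [CommRing K] [CommRing L] [Algebra k K] [Algebra k L] (φ : K →ₐ[k] L) :
    ExtObj str L ⟶ ExtObj str K :=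
  Over.homMk (Spec.map (CommRingCat.ofHom φ.toRingHom)) (by
    show Spec.map _ ≫ Spec.map _ ≫ str = Spec.map _ ≫ str
    rw [← Category.assoc, ← Spec.map_comp]
    congr 2; ext x; exact φ.commutes x)

theorem extMap_comp_extHom {K L : Type u} [CommRing K] [CommRing L] [Algebra k K] [Algebra k L] (φ : K →ₐ[k] L) :
    extMap (str := str) φ ≫ extHom str K = extHom str L := by
  ext1
  show Spec.map _ ≫ Spec.map _ = Spec.map _
  rw [← Spec.map_comp]; congr 1; ext x; exact φ.commutes x

theorem exists_clopen_stage (A : Type u) [CommRing A] [Algebra k A] (L : Type u) [Field L] [Algebra k L]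
    [Algebra.IsAlgebraic k L] {s : Set (PrimeSpectrum (A ⊗[k] L))} (hs : IsClopen s) :
    ∃ (E : IntermediateField k L) (_ : FiniteDimensional k E) (t : Set (PrimeSpectrum (A ⊗[k] E))),
      PrimeSpectrum.comap (Algebra.TensorProduct.map (AlgHom.id A A) E.val).toRingHom ⁻¹' t = s := by
  obtain ⟨e, -, rfl⟩ := PrimeSpectrum.exists_idempotent_basicOpen_eq_of_isClopen hs
  obtain ⟨C, ⟨σ, rfl⟩, hC⟩ := exists_fg_and_mem_baseChange e
  let E := IntermediateField.adjoin k (σ : Set L)
  have hfin : FiniteDimensional k E :=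
    IntermediateField.finiteDimensional_adjoin fun x _ => Algebra.IsIntegral.isIntegral x
  have hle : Algebra.adjoin k (σ : Set L) ≤ E.toSubalgebra :=
    Algebra.adjoin_le (IntermediateField.subset_adjoin k _)
  obtain ⟨e', he'⟩ := hC
  refine ⟨E, hfin, PrimeSpectrum.basicOpen
    (Algebra.TensorProduct.map (AlgHom.id A A) (Subalgebra.inclusion hle) e'), ?_⟩
  rw [← he']
  ext z
  have hcomp : Algebra.TensorProduct.map (AlgHom.id A A) E.val (Algebra.TensorProduct.map (AlgHom.id A A)
      (Subalgebra.inclusion hle) e') = Algebra.TensorProduct.map (AlgHom.id A A) (Algebra.adjoin k (σ : Set L)).val e' := by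
    have h : (Algebra.TensorProduct.map (AlgHom.id A A) E.val).comp (Algebra.TensorProduct.map (AlgHom.id A A)
        (Subalgebra.inclusion hle)) = Algebra.TensorProduct.map (AlgHom.id A A) (Algebra.adjoin k (σ : Set L)).val :=
      Algebra.TensorProduct.ext' fun a b => rfl
    exact congrArg (fun ψ => ψ e') h
  show Algebra.TensorProduct.map (AlgHom.id A A) E.val _ ∉ z.asIdeal ↔ _ ∉ z.asIdeal
  rw [hcomp]; rfl

/-- the chart of a base change -/
theorem exists_bc_lift {F : Sp S} (q : F ⟶ (yon S).obj (Over.mk str)) {A : Type u} [CommRing A] [Algebra k A]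
    (b : (yon S).obj (ExtObj str A) ⟶ F) (hb : b ≫ q = (yon S).map (extHom str A)) (K : Type u) [Field K] [Algebra k K] :
    ∃ l : (yon S).obj (ExtObj str (A ⊗[k] K)) ⟶ pullback q ((yon S).map (extHom str K)),
      l ≫ pullback.snd _ _ = (yon S).map (extMap Algebra.TensorProduct.includeRight) ∧
      IsPullback ((yon S).map (extMap (Algebra.TensorProduct.includeLeft : A →ₐ[k] A ⊗[k] K))) l b
        (pullback.fst q ((yon S).map (extHom str K))) := by
  have sqA : IsPullback ((yon S).map (extMap (Algebra.TensorProduct.includeLeft : A →ₐ[k] A ⊗[k] K)))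
      ((yon S).map (extMap (Algebra.TensorProduct.includeRight : K →ₐ[k] A ⊗[k] K)))
      ((yon S).map (extHom str A)) ((yon S).map (extHom str K)) :=
    isPullback_yon_iff.2 (isPullback_SpecMap_of_isPushout _ _ _ _ (CommRingCat.isPushout_tensorProduct k A K))
  let l := pullback.lift ((yon S).map (extMap (Algebra.TensorProduct.includeLeft : A →ₐ[k] A ⊗[k] K)) ≫ b)
    ((yon S).map (extMap (Algebra.TensorProduct.includeRight : K →ₐ[k] A ⊗[k] K)))
    (by rw [Category.assoc, hb]; exact sqA.w)
  refine ⟨l, pullback.lift_snd _ _ _, IsPullback.of_bot ?_ (pullback.lift_fst _ _ _).symm (IsPullback.of_hasPullback _ _)⟩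
  rw [hb, pullback.lift_snd]
  exact sqA

/-- connected over all finite separable extensions implies connected over a separable closure -/
theorem connected_sepClosure {F : Sp S} (hF : IsAlgSpace F) (q : F ⟶ (yon S).obj (Over.mk str))
    (h : ∀ (E : Type u) [Field E] [Algebra k E], Module.Finite k E → Algebra.IsSeparable k E →
      ConnectedSpace (Points (pullback q ((yon S).map (extHom str E))))) :
    ConnectedSpace (Points (pullback q ((yon S).map (extHom str (SeparableClosure k))))) := by
  let L := SeparableClosure k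
  have hk : ConnectedSpace (Points (pullback q ((yon S).map (extHom str k)))) := h k inferInstance inferInstance
  have hne : Nonempty (Points (pullback q ((yon S).map (extHom str L)))) := by
    obtain ⟨z⟩ := hk.toNonempty
    obtain ⟨p, -⟩ := exists_point_of_isPullback (IsPullback.of_hasPullback q ((yon S).map (extHom str L)))
      (Points.map (pullback.fst _ _) z) (Points.ofScheme (ExtObj str L) (IsLocalRing.closedPoint L))
      ((Points.schemeEquiv _).symm.injective ((inferInstance : Subsingleton (PrimeSpectrum k)).elim _ _))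
    exact ⟨p⟩
  refine connectedSpace_iff_clopen.2 ⟨hne, fun U hU => ?_⟩
  by_contra hcon
  push_neg at hcon
  obtain ⟨hU0, hU1⟩ := hcon
  obtain ⟨u, hu⟩ := hU0
  obtain ⟨W, a, w₀, hWa, ha, hw₀, -⟩ := SpQS.exists_affine_chart_at hF (Points.map (pullback.fst _ _) u)
  obtain ⟨κ, hκ⟩ := (yon S).map_surjective (a ≫ q)
  obtain ⟨φ, hφ⟩ := Spec.map_surjective (W.left.isoSpec.inv ≫ κ.left)
  let A := Γ(W.left, ⊤)
  letI : Algebra k A := φ.hom.toAlgebra
  have hφ' : Spec.map (CommRingCat.ofHom (algebraMap k A)) = W.left.isoSpec.inv ≫ κ.left := hφ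
  let eW : ExtObj str A ≅ W := Over.isoMk W.left.isoSpec.symm (by
    show W.left.isoSpec.inv ≫ W.hom = Spec.map _ ≫ str
    rw [hφ', Category.assoc]
    exact congrArg (W.left.isoSpec.inv ≫ ·) (Over.w κ).symm)
  let b := (yon S).map eW.hom ≫ a
  have hb : b ≫ q = (yon S).map (extHom str A) := by
    rw [Category.assoc, ← hκ, ← Functor.map_comp]
    congr 1
    ext1
    exact hφ'.symm
  obtain ⟨ls, hls, sqs⟩ := exists_bc_lift q b hb L
  obtain ⟨z₀, hz₀⟩ : ∃ z, Points.ofPt ls z ∈ U := by
    obtain ⟨z, -, hz⟩ := exists_point_of_isPullback sqs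
      (Points.ofScheme (ExtObj str A) (eW.inv.left w₀)) u (by
        rw [Points.map_ofPt, Category.id_comp, ← hw₀]
        show Points.ofPt ((yon S).map eW.hom ≫ a) (eW.inv.left w₀) = _
        rw [ofPt_comp, ← Scheme.Hom.comp_apply, ← Over.comp_left, eW.inv_hom_id]
        rfl)
    refine ⟨Points.toScheme (ExtObj str (A ⊗[k] L)) z, ?_⟩
    rw [← Category.id_comp ls, ← Points.map_ofPt]
    rw [show Points.ofPt (𝟙 _) (Points.toScheme (ExtObj str (A ⊗[k] L)) z) = z from Points.ofScheme_toScheme _ z]
    rw [hz]; exact hu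
  obtain ⟨E, _, t, ht⟩ := exists_clopen_stage A L (hU.preimage (Points.continuous_ofPt ls))
  let ι : ExtObj str L ⟶ ExtObj str E := extMap E.val
  let m : pullback q ((yon S).map (extHom str L)) ⟶ pullback q ((yon S).map (extHom str E)) :=
    pullback.lift (pullback.fst _ _) (pullback.snd _ _ ≫ (yon S).map ι) (by
      rw [Category.assoc, ← Functor.map_comp, extMap_comp_extHom]; exact pullback.condition)
  have sqm : IsPullback m (pullback.snd q ((yon S).map (extHom str L))) (pullback.snd q ((yon S).map (extHom str E)))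
      ((yon S).map ι) := by
    refine IsPullback.of_right ?_ (pullback.lift_snd _ _ _) (IsPullback.of_hasPullback _ _)
    rw [pullback.lift_fst, ← Functor.map_comp, extMap_comp_extHom]
    exact IsPullback.of_hasPullback _ _
  have hPE : IsAlgSpace (pullback q ((yon S).map (extHom str E))) :=
    isAlgSpace_of_isPullback_space (IsAlgSpace.yon_obj _) hF (IsAlgSpace.yon_obj _) (IsPullback.of_hasPullback _ _)
  have ho : IsOpenMap (Points.map m) :=
    isUnivOpenMor_to_field (IsAlgSpace.yon_obj _) _ ((yon S).map ι) hPE _ _ _ sqm.flip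
  have hc : IsClosedMap (Points.map m) := by
    have hrep : RepWith @UniversallyClosed ((yon S).map ι) := by
      refine (repWith_yon_iff ι).2 ?_
      have : IsIntegralHom ι.left := by
        show IsIntegralHom (Spec.map _)
        rw [IsIntegralHom.SpecMap_iff]
        exact algebraMap_isIntegral_iff.2 (inferInstance : Algebra.IsIntegral E L)
      infer_instance
    exact ((isUnivClosedMor_iff_repWith hrep.1).2 hrep) hPE _ _ _ sqm.flip
  haveI : ConnectedSpace (Points (pullback q ((yon S).map (extHom str E)))) := h E inferInstance inferInstance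
  obtain ⟨lE, hlE, sqE⟩ := exists_bc_lift q b hb E
  let φj : A ⊗[k] E →ₐ[k] A ⊗[k] L := (Algebra.TensorProduct.map (AlgHom.id A A) E.val).restrictScalars k
  let j : ExtObj str (A ⊗[k] L) ⟶ ExtObj str (A ⊗[k] E) := extMap φj
  have hjp : j ≫ extMap (Algebra.TensorProduct.includeLeft : A →ₐ[k] A ⊗[k] E) =
      extMap (Algebra.TensorProduct.includeLeft : A →ₐ[k] A ⊗[k] L) := by
    ext1
    show Spec.map _ ≫ Spec.map _ = Spec.map _
    rw [← Spec.map_comp]; rfl
  have hjq : j ≫ extMap (Algebra.TensorProduct.includeRight : E →ₐ[k] A ⊗[k] E) =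
      extMap (Algebra.TensorProduct.includeRight : L →ₐ[k] A ⊗[k] L) ≫ ι := by
    ext1
    show Spec.map _ ≫ Spec.map _ = Spec.map _ ≫ Spec.map _
    rw [← Spec.map_comp, ← Spec.map_comp]; rfl
  have hl : (yon S).map j ≫ lE = ls ≫ m := by
    apply pullback.hom_ext
    · rw [Category.assoc, Category.assoc, pullback.lift_fst, ← sqs.w, ← sqE.w, ← Functor.map_comp_assoc, hjp]
    · rw [Category.assoc, Category.assoc, hlE, pullback.lift_snd, ← Category.assoc ls, hls,
        ← Functor.map_comp, ← Functor.map_comp, hjq]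
  have sqJ : IsPullback ((yon S).map j) ls lE m := by
    refine IsPullback.of_right ?_ hl sqE
    rw [← Functor.map_comp, hjp, pullback.lift_fst]
    exact sqs
  have himg : Points.map m '' Uᶜ = Set.univ :=
    IsClopen.eq_univ (⟨hc _ hU.compl.1, ho _ hU.compl.2⟩ : IsClopen (Points.map m '' Uᶜ))
      ((Set.nonempty_compl.2 hU1).image _)
  obtain ⟨z, hzU, hz⟩ := himg.ge (Set.mem_univ (Points.ofPt lE (j.left z₀)))
  obtain ⟨p, hp1, hp2⟩ := exists_point_of_isPullback sqJ
    (Points.ofScheme (ExtObj str (A ⊗[k] E)) (j.left z₀)) z (by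
      rw [Points.map_ofPt, Category.id_comp]; exact hz.symm)
  obtain ⟨z₁, rfl⟩ := (Points.schemeEquiv _).surjective p
  have hj : j.left z₁ = j.left z₀ := (Points.schemeEquiv _).injective (by
    show Points.ofScheme _ _ = Points.ofScheme _ _
    rw [← ofScheme_map, ← hp1]
    exact ((Points.map_ofPt _ _ _).trans (by rw [Category.id_comp])).symm)
  have hz₁ : Points.ofPt ls z₁ = z := by
    rw [← hp2]
    exact ((Points.map_ofPt _ _ _).trans (by rw [Category.id_comp])).symm
  apply hzU
  rw [← hz₁]
  show z₁ ∈ Points.ofPt ls ⁻¹' U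
  have h1 : z₀ ∈ Points.ofPt ls ⁻¹' U := hz₀
  rw [← ht] at h1 ⊢
  show j.left z₁ ∈ t
  rw [hj]
  exact h1

/-- connected over all finite separable extensions implies geometrically connected -/
theorem connected_of_finSep {F : Sp S} (hF : IsAlgSpace F) (q : F ⟶ (yon S).obj (Over.mk str))
    (h : ∀ (E : Type u) [Field E] [Algebra k E], Module.Finite k E → Algebra.IsSeparable k E →
      ConnectedSpace (Points (pullback q ((yon S).map (extHom str E)))))
    {Ω : Type u} [Field Ω] {w : Spec (.of Ω) ⟶ S} (ι : Over.mk w ⟶ Over.mk str) {P : Sp S} {pr : P ⟶ F}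
    {q' : P ⟶ (yon S).obj (Over.mk w)} (sq : IsPullback pr q' q ((yon S).map ι)) : ConnectedSpace (Points P) := by
  let L := SeparableClosure k
  have hL := connected_sepClosure hF q h
  obtain ⟨φ, hφ⟩ := Spec.map_surjective ι.left
  obtain ⟨Θ, _, i, j, hij⟩ := FieldPt.exists_amalgamation φ.hom (algebraMap k L)
  let w' : Spec (CommRingCat.of Θ) ⟶ S := Spec.map (CommRingCat.ofHom i) ≫ w
  let c : Over.mk w' ⟶ Over.mk w := Over.homMk (Spec.map (CommRingCat.ofHom i)) rfl
  have hcι : (c ≫ ι).left = Spec.map (CommRingCat.ofHom (j.comp (algebraMap k L))) := by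
    show Spec.map _ ≫ ι.left = _
    rw [← hφ, ← Spec.map_comp, ← hij]; rfl
  let d : Over.mk w' ⟶ ExtObj str L := Over.homMk (Spec.map (CommRingCat.ofHom j)) (by
    show Spec.map _ ≫ Spec.map _ ≫ str = w'
    have hw := Over.w (c ≫ ι)
    rw [hcι] at hw
    rw [← Category.assoc, ← Spec.map_comp]
    exact hw)
  have hd : d ≫ extHom str L = c ≫ ι := by
    ext1
    rw [hcι]
    show Spec.map _ ≫ Spec.map _ = _
    rw [← Spec.map_comp]; rfl
  have sqc := IsPullback.of_hasPullback q' ((yon S).map c)
  have big := sqc.paste_horiz sq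
  rw [← Functor.map_comp, ← hd, Functor.map_comp] at big
  have sqL := IsPullback.of_hasPullback q ((yon S).map (extHom str L))
  let l := sqL.lift (pullback.fst q' ((yon S).map c) ≫ pr) (pullback.snd q' ((yon S).map c) ≫ (yon S).map d)
    (by rw [Category.assoc (pullback.snd _ _)]; exact big.w)
  have sql : IsPullback l (pullback.snd q' ((yon S).map c)) (pullback.snd q ((yon S).map (extHom str L)))
      ((yon S).map d) :=
    IsPullback.of_right (by rw [sqL.lift_fst]; exact big) (sqL.lift_snd _ _ _) sqL
  haveI : IsSepClosed L := IsSepClosure.sep_closed k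
  have hPL : IsAlgSpace (pullback q ((yon S).map (extHom str L))) :=
    isAlgSpace_of_isPullback_space (IsAlgSpace.yon_obj _) hF (IsAlgSpace.yon_obj _) sqL
  obtain ⟨ho, hf⟩ := isOpenMap_and_connected_fibres hPL d (pullback.snd _ _) sql
  haveI : ConnectedSpace (Points (pullback q' ((yon S).map c))) := by
    have h1 := GeomConn.isConnected_preimage ho hf (connectedSpace_iff_univ.1 hL)
    rw [Set.preimage_univ] at h1
    exact connectedSpace_iff_univ.2 h1
  have hs : Function.Surjective (Points.map (pullback.fst q' ((yon S).map c))) := by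
    intro x
    obtain ⟨p, hp, -⟩ := exists_point_of_isPullback sqc x (Points.ofScheme (Over.mk w') (IsLocalRing.closedPoint Θ))
      ((Points.schemeEquiv (Over.mk w)).symm.injective ((inferInstance : Subsingleton (PrimeSpectrum Ω)).elim _ _))
    exact ⟨p, hp⟩
  exact hs.connectedSpace (Points.continuous_map _)

end Groth.Agent.GeomPi0
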